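import Cfsg.Agent.Lib.Solv.Generation
import Mathlib.Data.ZMod.Basic
import Mathlib.Tactic

/-!
A `p`-group `W` of class-one stabilisers of `1 ≤ Z ≤ A` acting faithfully with a `p'`-group containing its
own centraliser.
-/

set_option autoImplicit false
set_option linter.style.haveILetI false
set_option linter.unusedSectionVars false

open scoped commutatorElement

namespace Cfsg.Agent.Solv.SpecialSylow

variable {A : Type*} [Group A] [Finite A] {Y : Type*} [Group Y] [Finite Y] {p : ℕ} [hp : Fact p.Prime]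

/-- The hypotheses. -/
structure Config (p : ℕ) (φ : Y →* MulAut A) (Z : Subgroup A) (W T : Subgroup Y) : Prop where
  comm : ∀ a b : A, a * b = b * a
  inj : Function.Injective φ
  exp : ∀ z ∈ Z, z ^ p = 1
  proper : ∃ x, x ∉ Z
  nt : Z ≠ ⊥
  fixZ : ∀ w ∈ W, ∀ z ∈ Z, φ w z = z
  quot : ∀ w ∈ W, ∀ x, φ w x * x⁻¹ ∈ Z
  full : ∀ x, x ∉ Z → ∀ c ∈ Z, ∃ w ∈ W, φ w x * x⁻¹ = c
  pgroup : IsPGroup p W
  wcomm : ∀ a ∈ W, ∀ b ∈ W, Commute a b
  wexp : ∀ w ∈ W, w ^ p = 1
  normal : T.Normal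
  coprime : (Nat.card T).Coprime p
  cent : Subgroup.centralizer (T : Set Y) ≤ T

theorem cancel_left (φ : Y →* MulAut A) (t : Y) (x : A) : φ t (φ t⁻¹ x) = x := by
  rw [← MulAut.mul_apply, ← map_mul, mul_inv_cancel, map_one, MulAut.one_apply]

theorem cancel_right (φ : Y →* MulAut A) (t : Y) (x : A) : φ t⁻¹ (φ t x) = x := by
  rw [← MulAut.mul_apply, ← map_mul, inv_mul_cancel, map_one, MulAut.one_apply]

namespace Config

variable {φ : Y →* MulAut A} {Z : Subgroup A} {W T : Subgroup Y} (C : Config p φ Z W T)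
include C

theorem disp_mul {w w' : Y} (hw : w ∈ W) (hw' : w' ∈ W) (x : A) :
    φ (w * w') x * x⁻¹ = (φ w x * x⁻¹) * (φ w' x * x⁻¹) := by
  set c := φ w' x * x⁻¹ with hc
  have h1 : φ (w * w') x = c * φ w x := by
    rw [map_mul, MulAut.mul_apply, show φ w' x = c * x by rw [hc, inv_mul_cancel_right], map_mul,
      C.fixZ w hw c (C.quot w' hw' x)]
  rw [h1, mul_assoc, C.comm]

/-- Displacement as a homomorphism of `W`. -/
def disp (x : A) : W →* A where
  toFun w := φ (w : Y) x * x⁻¹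
  map_one' := by simp
  map_mul' w w' := C.disp_mul w.2 w'.2 x

theorem disp_apply (x : A) (w : W) : C.disp x w = φ (w : Y) x * x⁻¹ := rfl

theorem disp_mem_zpowers {x : A} {B : Subgroup Y} {a : Y} (hB : B ≤ W) (ha : a ∈ W)
    (hBa : B ⊔ Subgroup.zpowers a = W) (hfix : ∀ b ∈ B, φ b x = x) :
    ∀ w ∈ W, φ w x * x⁻¹ ∈ Subgroup.zpowers (φ a x * x⁻¹) := by
  intro w hw
  have h1 : B ⊔ Subgroup.zpowers a ≤ ((Subgroup.zpowers (φ a x * x⁻¹)).comap (C.disp x)).map W.subtype := by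
    refine sup_le (fun b hb => ⟨⟨b, hB hb⟩, ?_, rfl⟩) (Subgroup.zpowers_le.2 ⟨⟨a, ha⟩, ?_, rfl⟩)
    · show φ b x * x⁻¹ ∈ Subgroup.zpowers (φ a x * x⁻¹)
      rw [hfix b hb, mul_inv_cancel]
      exact one_mem _
    · exact Subgroup.mem_zpowers _
  obtain ⟨v, hv, rfl⟩ := h1 (hBa.symm ▸ hw)
  exact hv

theorem card_Z_eq_of_cyclic {x : A} (hx : x ∉ Z) {a : Y} (ha : a ∈ W)
    (h : ∀ w ∈ W, φ w x * x⁻¹ ∈ Subgroup.zpowers (φ a x * x⁻¹)) : Nat.card Z = p := by
  have h1 : Z ≤ Subgroup.zpowers (φ a x * x⁻¹) := fun c hc => by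
    obtain ⟨w, hw, rfl⟩ := C.full x hx c hc
    exact h w hw
  have h2 : Nat.card (Subgroup.zpowers (φ a x * x⁻¹)) ∣ p := by
    rw [Nat.card_zpowers]
    exact orderOf_dvd_of_pow_eq_one (C.exp _ (C.quot a ha x))
  rcases (Nat.dvd_prime hp.out).1 ((Subgroup.card_dvd_of_le h1).trans h2) with h3 | h3
  · exact absurd (Subgroup.eq_bot_of_card_eq Z h3) C.nt
  · exact h3

/-- `T` moves `Z`. -/
theorem not_normalise : ¬ ∀ t ∈ T, ∀ z ∈ Z, φ t z ∈ Z := by
  intro hT
  obtain ⟨x0, hx0⟩ := C.proper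
  obtain ⟨c, hc, hc1⟩ : ∃ c ∈ Z, c ≠ 1 := by
    by_contra h
    push Not at h
    exact C.nt ((Subgroup.eq_bot_iff_forall _).2 h)
  obtain ⟨w, hw, hwc⟩ := C.full x0 hx0 c hc
  haveI := C.normal
  have hcent : w ∈ Subgroup.centralizer (T : Set Y) := by
    rw [Subgroup.mem_centralizer_iff]
    intro t ht
    -- `k` stabilises the series and has order prime to `p`
    set k := t * w * t⁻¹ * w⁻¹ with hk
    have hkT : k ∈ T := by
      rw [hk, show t * w * t⁻¹ * w⁻¹ = t * (w * t⁻¹ * w⁻¹) by group]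
      exact mul_mem ht (C.normal.conj_mem _ (inv_mem ht) w)
    have hstab : ∀ u : Y, (u = w⁻¹ ∨ u = t * w * t⁻¹) → (∀ z ∈ Z, φ u z = z) ∧ ∀ x, φ u x * x⁻¹ ∈ Z := by
      rintro u (rfl | rfl)
      · exact ⟨fun z hz => C.fixZ _ (inv_mem hw) z hz, fun x => C.quot _ (inv_mem hw) x⟩
      · refine ⟨fun z hz => ?_, fun x => ?_⟩
        · rw [map_mul, map_mul, MulAut.mul_apply, MulAut.mul_apply, C.fixZ w hw _ (hT _ (inv_mem ht) z hz),
            ← MulAut.mul_apply, ← map_mul, mul_inv_cancel, map_one, MulAut.one_apply]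
        · have h1 := hT t ht _ (C.quot w hw (φ t⁻¹ x))
          rw [map_mul (φ t), map_inv (φ t), cancel_left] at h1
          rw [map_mul φ, map_mul φ, MulAut.mul_apply, MulAut.mul_apply]
          exact h1
    have hkZ : ∀ z ∈ Z, φ k z = z := fun z hz => by
      rw [hk, map_mul, MulAut.mul_apply, (hstab _ (Or.inl rfl)).1 z hz, (hstab _ (Or.inr rfl)).1 z hz]
    have hkq : ∀ x, φ k x * x⁻¹ ∈ Z := fun x => by
      rw [hk, map_mul, MulAut.mul_apply]
      have h2 := mul_mem ((hstab _ (Or.inr rfl)).2 (φ w⁻¹ x)) ((hstab _ (Or.inl rfl)).2 x)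
      rwa [mul_assoc, ← mul_assoc (φ w⁻¹ x)⁻¹, inv_mul_cancel, one_mul] at h2
    have hk1 : k = 1 := by
      apply C.inj
      rw [map_one]
      refine MulEquiv.ext fun x => ?_
      set z := φ k x * x⁻¹ with hz
      have hiter : ∀ n : ℕ, φ (k ^ n) x = z ^ n * x := fun n => by
        induction n with
        | zero => simp
        | succ n ih =>
          rw [pow_succ', map_mul, MulAut.mul_apply, ih, map_mul, map_pow, hkZ z (hkq x),
            show φ k x = z * x by rw [hz, inv_mul_cancel_right], ← mul_assoc, ← pow_succ]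
      have h3 := hiter (orderOf k)
      rw [pow_orderOf_eq_one, map_one, MulAut.one_apply, right_eq_mul] at h3
      have h4 : z = 1 := by
        rw [← orderOf_eq_one_iff]
        refine Nat.eq_one_of_dvd_coprimes (a := orderOf k) (b := p) ?_ (orderOf_dvd_of_pow_eq_one h3)
          (orderOf_dvd_of_pow_eq_one (C.exp z (hkq x)))
        exact C.coprime.coprime_dvd_left ((Subgroup.orderOf_mk k hkT).symm ▸ orderOf_dvd_natCard (⟨k, hkT⟩ : T))
      rw [MulAut.one_apply]
      exact mul_inv_eq_one.1 h4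
    rw [hk] at hk1
    calc t * w = t * w * t⁻¹ * w⁻¹ * (w * t) := by group
      _ = w * t := by rw [hk1, one_mul]
  have hwT := C.cent hcent
  obtain ⟨j, hj⟩ := C.pgroup ⟨w, hw⟩
  have hw1 : w = 1 := by
    rw [← orderOf_eq_one_iff]
    refine Nat.eq_one_of_dvd_coprimes (C.coprime.pow_right j)
      ((Subgroup.orderOf_mk w hwT).symm ▸ orderOf_dvd_natCard (⟨w, hwT⟩ : T))
      (orderOf_dvd_of_pow_eq_one (congrArg Subtype.val hj))
  rw [hw1, map_one, MulAut.one_apply, mul_inv_cancel] at hwc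
  exact hc1 hwc.symm

theorem coprime_W : (Nat.card W).Coprime (Nat.card T) := by
  obtain ⟨k, hk⟩ := C.pgroup.exists_card_eq
  rw [hk]
  exact (C.coprime.symm).pow_left k

/-- `W` is cyclic, and then everything is small. -/
theorem small : Nat.card Z = p ∧ Nat.card A = p * p ∧ ∃ a ∈ W, W = Subgroup.zpowers a := by
  haveI := C.normal
  have hWn : W ≤ Subgroup.normalizer (T : Set Y) := by
    rw [Subgroup.normalizer_eq_top]; exact le_top
  obtain ⟨a, ha, hWa⟩ : ∃ a ∈ W, W = Subgroup.zpowers a := by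
    by_contra hnc
    push Not at hnc
    refine C.not_normalise ?_
    let NZ : Subgroup Y :=
      { carrier := {t | (∀ z ∈ Z, φ t z ∈ Z) ∧ ∀ z ∈ Z, φ t⁻¹ z ∈ Z}
        one_mem' := ⟨fun z hz => by simpa using hz, fun z hz => by simpa using hz⟩
        mul_mem' := fun {s t} hs ht => ⟨fun z hz => by rw [map_mul, MulAut.mul_apply]; exact hs.1 _ (ht.1 z hz),
          fun z hz => by rw [mul_inv_rev, map_mul, MulAut.mul_apply]; exact ht.2 _ (hs.2 z hz)⟩
        inv_mem' := fun {t} ht => ⟨ht.2, fun z hz => by rw [inv_inv]; exact ht.1 z hz⟩ }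
    suffices h : T ≤ NZ from fun t ht => (h ht).1
    rw [← Cfsg.Agent.Solv.gen_eq W T ⟨⟨fun s t => Subtype.ext (C.wcomm s s.2 t t.2)⟩⟩ hWn C.coprime_W]
    refine iSup₂_le fun B hB => ?_
    obtain ⟨hBW, b, hb, hBb⟩ := hB
    suffices key : ∀ t, (∀ β ∈ B, β * t = t * β) → ∀ z ∈ Z, φ t z ∈ Z by
      intro t ht
      have h1 : ∀ β ∈ B, β * t = t * β := fun β hβ => Subgroup.mem_centralizer_iff.1 (Subgroup.mem_inf.1 ht).2 β hβ
      exact ⟨key t h1, key t⁻¹ fun β hβ => (Commute.inv_right (h1 β hβ)).eq⟩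
    intro t ht
    by_cases hZp : Nat.card Z = p
    · -- one nontrivial element of `B` suffices
      obtain ⟨β, hβ, hβ1⟩ : ∃ β ∈ B, β ≠ 1 := by
        by_contra h
        push Not at h
        refine hnc b hb ?_
        conv_lhs => rw [← hBb]
        rw [(Subgroup.eq_bot_iff_forall _).2 h, bot_sup_eq]
      obtain ⟨x, hx⟩ : ∃ x, φ β x * x⁻¹ ≠ 1 := by
        by_contra h
        push Not at h
        exact hβ1 (C.inj (by rw [map_one]; exact MulEquiv.ext fun x => by rw [MulAut.one_apply]; exact mul_inv_eq_one.1 (h x)))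
      intro z hz
      have hzc : Subgroup.zpowers (φ β x * x⁻¹) = Z := by
        refine Subgroup.eq_of_le_of_card_ge (Subgroup.zpowers_le.2 (C.quot β (hBW hβ) x)) ?_
        rw [hZp, Nat.card_zpowers, orderOf_eq_prime (C.exp _ (C.quot β (hBW hβ) x)) hx]
      obtain ⟨i, hi⟩ := Subgroup.mem_zpowers_iff.1 (hzc.symm ▸ hz : z ∈ Subgroup.zpowers (φ β x * x⁻¹))
      rw [← hi, map_zpow]
      refine zpow_mem ?_ i
      rw [map_mul, map_inv, ← MulAut.mul_apply, ← map_mul, ← ht β hβ, map_mul, MulAut.mul_apply]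
      exact C.quot β (hBW hβ) (φ t x)
    · -- the fixed points of `B` are `Z`
      have hfixB : ∀ x, (∀ β ∈ B, φ β x = x) → x ∈ Z := fun x hx => by
        by_contra hxZ
        exact hZp (C.card_Z_eq_of_cyclic hxZ hb (C.disp_mem_zpowers hBW hb hBb hx))
      intro z hz
      refine hfixB _ fun β hβ => ?_
      rw [← MulAut.mul_apply, ← map_mul, ht β hβ, map_mul, MulAut.mul_apply, C.fixZ β (hBW hβ) z hz]
  obtain ⟨x, hx⟩ := C.proper
  have hgen : ∀ y : A, ∀ w ∈ W, φ w y * y⁻¹ ∈ Subgroup.zpowers (φ a y * y⁻¹) := fun y =>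
    C.disp_mem_zpowers bot_le ha (by rw [bot_sup_eq, ← hWa]) fun b hb => by
      rw [Subgroup.mem_bot.1 hb, map_one, MulAut.one_apply]
  have hZp : Nat.card Z = p := C.card_Z_eq_of_cyclic hx ha (hgen x)
  refine ⟨hZp, ?_, a, ha, hWa⟩
  -- the displacement by `a` has kernel `Z` and image `Z`
  let d : A →* A :=
    { toFun := fun y => φ a y * y⁻¹
      map_one' := by simp
      map_mul' := fun y y' => by
        rw [map_mul, mul_inv_rev, C.comm y'⁻¹ y⁻¹, mul_assoc, ← mul_assoc (φ a y') y⁻¹, C.comm (φ a y') y⁻¹,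
          mul_assoc y⁻¹, ← mul_assoc] }
  have hker : d.ker = Z := by
    ext y
    rw [MonoidHom.mem_ker]
    refine ⟨fun hy => ?_, fun hy => show φ a y * y⁻¹ = 1 by rw [C.fixZ a ha y hy, mul_inv_cancel]⟩
    by_contra hyZ
    obtain ⟨c, hc, hc1⟩ : ∃ c ∈ Z, c ≠ 1 := by
      by_contra h
      push Not at h
      exact C.nt ((Subgroup.eq_bot_iff_forall _).2 h)
    obtain ⟨w, hw, hwc⟩ := C.full y hyZ c hc
    have h1 := hgen y w hw
    rw [show φ a y * y⁻¹ = 1 from hy, Subgroup.zpowers_one_eq_bot, Subgroup.mem_bot, hwc] at h1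
    exact hc1 h1
  have hran : d.range = Z := by
    refine le_antisymm ?_ fun c hc => ?_
    · rintro _ ⟨y, rfl⟩
      exact C.quot a ha y
    · obtain ⟨w, hw, rfl⟩ := C.full x hx c hc
      obtain ⟨i, hi⟩ := Subgroup.mem_zpowers_iff.1 (hgen x w hw)
      rw [← hi]
      exact zpow_mem (⟨x, rfl⟩ : φ a x * x⁻¹ ∈ d.range) i
  rw [Subgroup.card_eq_card_quotient_mul_card_subgroup d.ker,
    Nat.card_congr (QuotientGroup.quotientKerEquivRange d).toEquiv, hran, hker, hZp]

/-- For `p ≥ 5` an elementary abelian `A` is impossible. -/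
theorem exponent_false (hp2 : p ≠ 2) (hp3 : p ≠ 3) (hA : ∀ x : A, x ^ p = 1) : False := by
  obtain ⟨hZp, hAp, a, ha, hWa⟩ := C.small
  haveI := C.normal
  obtain ⟨t, ht, z, hz, htz⟩ : ∃ t ∈ T, ∃ z ∈ Z, φ t z ∉ Z := by
    have h := C.not_normalise
    push Not at h
    exact h
  have hz1 : z ≠ 1 := fun h => htz (by rw [h, map_one]; exact one_mem Z)
  set e := z with he
  set f := φ t z with hf
  -- coordinates
  have hpz : ∀ (x : A) (i j : ℕ), ((i : ZMod p) = j) → x ^ i = x ^ j := fun x i j h => by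
    rw [ZMod.natCast_eq_natCast_iff] at h
    exact pow_eq_pow_iff_modEq.2 (h.of_dvd (orderOf_dvd_of_pow_eq_one (hA x)))
  obtain ⟨ψ, hψd⟩ : ∃ ψ : ZMod p → ZMod p → A, ∀ x y, ψ x y = e ^ x.val * f ^ y.val := ⟨_, fun _ _ => rfl⟩
  have hψ : ∀ i j : ℕ, e ^ i * f ^ j = ψ i j := fun i j => by
    rw [hψd, hpz e i (i : ZMod p).val (by rw [ZMod.natCast_zmod_val]), hpz f j (j : ZMod p).val (by rw [ZMod.natCast_zmod_val])]
  have hψmul : ∀ x y x' y', ψ x y * ψ x' y' = ψ (x + x') (y + y') := fun x y x' y' => by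
    have h1 : ψ x y * ψ x' y' = e ^ (x.val + x'.val) * f ^ (y.val + y'.val) := by
      rw [hψd, hψd, pow_add, pow_add, mul_assoc, ← mul_assoc (f ^ y.val), C.comm (f ^ y.val) (e ^ x'.val)]
      simp only [mul_assoc]
    rw [h1, hψ, Nat.cast_add, Nat.cast_add, ZMod.natCast_zmod_val, ZMod.natCast_zmod_val, ZMod.natCast_zmod_val,
      ZMod.natCast_zmod_val]
  have hψpow : ∀ x y, ∀ k : ℕ, ψ x y ^ k = ψ (k * x) (k * y) := fun x y k => by
    induction k with
    | zero => rw [pow_zero, Nat.cast_zero, zero_mul, zero_mul]; simp [hψd]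
    | succ k ih => rw [pow_succ, ih, hψmul, Nat.cast_succ, add_mul, add_mul, one_mul, one_mul]
  have he0 : ψ 1 0 = e := by rw [← Nat.cast_one, ← Nat.cast_zero, ← hψ, pow_one, pow_zero, mul_one]
  have hf0 : ψ 0 1 = f := by rw [← Nat.cast_one, ← Nat.cast_zero, ← hψ, pow_one, pow_zero, one_mul]
  have hspan : ∀ x : A, ∃ i j : ZMod p, ψ i j = x := by
    intro x
    haveI : (Subgroup.zpowers f).Normal := ⟨fun n hn g => by rwa [C.comm g n, mul_inv_cancel_right]⟩
    set S := Z ⊔ Subgroup.zpowers f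
    have hS : S = ⊤ := by
      have h1 : Nat.card S ∣ p ^ 2 := by rw [pow_two, ← hAp]; exact Subgroup.card_subgroup_dvd_card S
      obtain ⟨k, hk2, hk⟩ := (Nat.dvd_prime_pow hp.out).1 h1
      have h3 : Nat.card Z < Nat.card S := by
        refine lt_of_le_of_ne (Subgroup.card_le_of_le le_sup_left) fun h => htz ?_
        exact (Subgroup.eq_of_le_of_card_ge le_sup_left h.ge).ge (Subgroup.mem_sup_right (Subgroup.mem_zpowers f))
      rw [hZp, hk] at h3
      have h4 : k = 2 := by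
        rcases k with _ | _ | k
        · rw [pow_zero] at h3; have := hp.out.one_lt; omega
        · rw [pow_one] at h3; omega
        · omega
      exact Subgroup.eq_top_of_card_eq S (by rw [hk, h4, hAp, pow_two])
    have hx : x ∈ S := hS ▸ Subgroup.mem_top x
    obtain ⟨u, hu, v, hv, rfl⟩ := Subgroup.mem_sup_of_normal_right.1 hx
    have hue : u ∈ Subgroup.zpowers e := by
      rw [Subgroup.eq_of_le_of_card_ge (Subgroup.zpowers_le.2 hz) (by
        rw [hZp, Nat.card_zpowers, orderOf_eq_prime (hA e) hz1])]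
      exact hu
    obtain ⟨i, hi⟩ := (isOfFinOrder_of_finite e).mem_powers_iff_mem_zpowers.2 hue
    obtain ⟨j, hj⟩ := (isOfFinOrder_of_finite f).mem_powers_iff_mem_zpowers.2 hv
    exact ⟨i, j, by rw [← hψ, ← hi, ← hj]⟩
  -- the transvections
  have hact : ∀ (w : Y) (a' b' c' d' : ZMod p), φ w e = ψ a' b' → φ w f = ψ c' d' →
      ∀ x y, φ w (ψ x y) = ψ (a' * x + c' * y) (b' * x + d' * y) := by
    intro w a' b' c' d' h1 h2 x y
    rw [hψd x y, map_mul (φ w), map_pow, map_pow, h1, h2, hψpow, hψpow, hψmul, ZMod.natCast_zmod_val, ZMod.natCast_zmod_val]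
    congr 1 <;> ring
  have hnf : f ∉ Z := htz
  obtain ⟨w, hw, hwf⟩ := C.full f hnf e hz
  have hu_e : φ w e = ψ 1 0 := by rw [he0, C.fixZ w hw e hz]
  have hu_f : φ w f = ψ 1 1 := by
    rw [show φ w f = e * f by rw [← hwf, inv_mul_cancel_right], ← he0, ← hf0, hψmul]; simp
  have hu := hact w _ _ _ _ hu_e hu_f
  -- a transvection fixing `f`
  set v := t * w * t⁻¹ with hv
  have hv_f : φ v f = f := by
    rw [hv, hf, map_mul φ, map_mul φ, MulAut.mul_apply, MulAut.mul_apply, cancel_right, C.fixZ w hw z hz]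
  obtain ⟨i, hi⟩ : ∃ i : ZMod p, φ v e = ψ 1 i := by
    have h1 : φ v e * e⁻¹ = φ t (φ w (φ t⁻¹ e) * (φ t⁻¹ e)⁻¹) := by
      rw [hv, map_mul φ, map_mul φ, MulAut.mul_apply, MulAut.mul_apply, map_mul (φ t), map_inv (φ t), cancel_left]
    have h2 := C.quot w hw (φ t⁻¹ e)
    rw [← Subgroup.eq_of_le_of_card_ge (Subgroup.zpowers_le.2 hz) (by
        rw [hZp, Nat.card_zpowers, orderOf_eq_prime (hA e) hz1])] at h2
    obtain ⟨k, hk⟩ := (isOfFinOrder_of_finite e).mem_powers_iff_mem_zpowers.2 h2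
    refine ⟨k, ?_⟩
    rw [mul_inv_eq_iff_eq_mul] at h1
    rw [h1, ← hk, map_pow, ← hf, C.comm, ← Nat.cast_one (R := ZMod p), ← hψ, pow_one]
  have hi0 : i ≠ 0 := by
    intro h0
    rw [h0, he0] at hi
    have hv1 : v = 1 := C.inj (by
      rw [map_one]
      refine MulEquiv.ext fun x => ?_
      obtain ⟨i, j, rfl⟩ := hspan x
      rw [hact v 1 0 0 1 (by rw [hi, he0]) (by rw [hv_f, hf0]), MulAut.one_apply]
      congr 1 <;> ring)
    have hw1 : w = 1 := by
      rw [hv] at hv1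
      calc w = t⁻¹ * (t * w * t⁻¹) * t := by group
        _ = 1 := by rw [hv1]; group
    rw [hw1, map_one, MulAut.one_apply, mul_inv_cancel] at hwf
    exact hz1 hwf.symm
  have hl0 := hact v _ _ _ _ hi (hv_f.trans hf0.symm)
  have hpow : ∀ (k : ℕ) x y, φ (w ^ k) (ψ x y) = ψ (x + k * y) y := fun k => by
    induction k with
    | zero => intro x y; simp
    | succ k ih =>
      intro x y
      rw [pow_succ, map_mul φ, MulAut.mul_apply, hu, ih]
      push_cast
      congr 1 <;> ring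
  have hpowv : ∀ (k : ℕ) x y, φ (v ^ k) (ψ x y) = ψ x (y + k * i * x) := fun k => by
    induction k with
    | zero => intro x y; simp
    | succ k ih =>
      intro x y
      rw [pow_succ, map_mul φ, MulAut.mul_apply, hl0, ih]
      push_cast
      congr 1 <;> ring
  set l := v ^ (i⁻¹ : ZMod p).val with hl
  have hpowl : ∀ (k : ℕ) x y, φ (l ^ k) (ψ x y) = ψ x (y + k * x) := fun k x y => by
    rw [hl, ← pow_mul, hpowv]
    congr 1
    push_cast
    rw [ZMod.natCast_zmod_val]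
    field_simp
  have hpowu' : ∀ (k : ℕ) x y, φ (w ^ k)⁻¹ (ψ x y) = ψ (x - k * y) y := fun k x y => by
    rw [map_inv]
    apply MulEquiv.injective (φ (w ^ k))
    rw [← MulAut.mul_apply, mul_inv_cancel, MulAut.one_apply, hpow, sub_add_cancel]
  have hpowl' : ∀ (k : ℕ) x y, φ (l ^ k)⁻¹ (ψ x y) = ψ x (y - k * x) := fun k x y => by
    rw [map_inv]
    apply MulEquiv.injective (φ (l ^ k))
    rw [← MulAut.mul_apply, mul_inv_cancel, MulAut.one_apply, hpowl, sub_add_cancel]
  -- a diagonal element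
  set m : ℕ := (p + 1) / 2 with hm
  have hm2 : (m : ZMod p) * 2 = 1 := by
    have h1 : m * 2 = p + 1 := by
      have := hp.out.odd_of_ne_two hp2
      obtain ⟨r, hr⟩ := this
      omega
    have h2 := congrArg (fun n : ℕ => (n : ZMod p)) h1
    push_cast at h2
    rwa [ZMod.natCast_self, zero_add] at h2
  set h := w ^ 2 * (l ^ m)⁻¹ * w ^ 2 * ((w ^ 1)⁻¹ * l ^ 1 * (w ^ 1)⁻¹) with hh
  have hhact : ∀ x y, φ h (ψ x y) = ψ (2 * x) ((m : ZMod p) * y) := fun x y => by
    simp only [hh, map_mul φ, MulAut.mul_apply, hpowu', hpowl, hpow, hpowl', Nat.cast_ofNat, Nat.cast_one, one_mul]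
    congr 1
    · linear_combination (y - 2 * x) * hm2
    · linear_combination (-x) * hm2
  have hcomm : h * w = w ^ 4 * h := by
    apply C.inj
    refine MulEquiv.ext fun x => ?_
    obtain ⟨i, j, rfl⟩ := hspan x
    rw [map_mul φ h w, map_mul φ (w ^ 4) h, MulAut.mul_apply, MulAut.mul_apply, hu, hhact, hhact, hpow]
    congr 1
    · push_cast; linear_combination (-2 * j) * hm2
    · ring
  -- both lie in `W T`, whose derived subgroup lies in `T`
  let π := QuotientGroup.mk' T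
  have hπv : π v = π w := by
    rw [hv, map_mul, map_mul, show π t = 1 from (QuotientGroup.eq_one_iff t).2 ht,
      show π t⁻¹ = 1 from (QuotientGroup.eq_one_iff _).2 (inv_mem ht), one_mul, mul_one]
  have hcl : Commute (π l) (π w) := by
    rw [hl, map_pow, hπv]; exact (Commute.refl _).pow_left _
  have hch : Commute (π h) (π w) := by
    rw [hh]
    simp only [map_mul, map_inv, map_pow]
    have h1 := Commute.refl (π w)
    exact ((((h1.pow_left 2).mul_left (hcl.pow_left m).inv_left).mul_left (h1.pow_left 2))).mul_left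
      (((h1.pow_left 1).inv_left.mul_left (hcl.pow_left 1)).mul_left (h1.pow_left 1).inv_left)
  have h3 : π (w ^ 3) = 1 := by
    have h4 := congrArg π hcomm
    rw [map_mul π h w, map_mul π (w ^ 4) h, hch.eq, map_pow] at h4
    have h5 := mul_right_cancel h4
    rw [show (4 : ℕ) = 3 + 1 from rfl, pow_succ, right_eq_mul] at h5
    rw [map_pow]; exact h5
  have h3T : w ^ 3 ∈ T := (QuotientGroup.eq_one_iff _).1 h3
  have h31 : w ^ 3 = 1 := by
    rw [← orderOf_eq_one_iff]
    refine Nat.eq_one_of_dvd_coprimes C.coprime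
      ((Subgroup.orderOf_mk (w ^ 3) h3T).symm ▸ orderOf_dvd_natCard (⟨w ^ 3, h3T⟩ : T))
      (orderOf_dvd_of_pow_eq_one (C.wexp _ (pow_mem hw 3)))
  have hw1 : w = 1 := by
    obtain ⟨n, hn⟩ := exists_pow_eq_self_of_coprime (x := w) (n := 3) (by
      refine Nat.Coprime.coprime_dvd_right (orderOf_dvd_of_pow_eq_one (C.wexp w hw)) ?_
      exact (Nat.coprime_primes Nat.prime_three hp.out).2 (Ne.symm hp3))
    rw [← hn, h31, one_pow]
  rw [hw1, map_one, MulAut.one_apply, mul_inv_cancel] at hwf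
  exact hz1 hwf.symm

end Config

end Cfsg.Agent.Solv.SpecialSylow
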