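import Mathlib.GroupTheory.PGroup
import Mathlib.GroupTheory.Commutator.Basic
import Mathlib.GroupTheory.Abelianization.Defs
import Mathlib.Order.Atoms.Finite
import Mathlib.GroupTheory.Nilpotent
import Mathlib.Tactic

/-!
A `p`-group with a coprime automorphism of prime order fixing every invariant proper subgroup pointwise.
-/

set_option autoImplicit false
set_option linter.style.haveILetI false
set_option linter.unusedSectionVars false

open scoped commutatorElement

namespace Cfsg.Agent.Solv.SpecialSylow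

universe u

/-- The properties of a nonabelian such group that are used. -/
structure SemiExtra (p : ℕ) (P : Type u) [Group P] : Prop where
  comm : ∀ x y : P, ⁅x, y⁆ ∈ Subgroup.center P
  pow : ∀ x : P, x ^ p ∈ Subgroup.center P
  exp : ∀ c ∈ Subgroup.center P, c ^ p = 1
  full : ∀ x : P, x ∉ Subgroup.center P → ∀ c ∈ Subgroup.center P, ∃ y : P, ⁅x, y⁆ = c
  small : Nat.card P = p ^ 3 → p ≠ 3 ∧
    (p = 2 → ∀ A : Subgroup P, Nat.card A = 4 → (∀ x ∈ A, x ^ 2 = 1) → False)

variable {P : Type u} [Group P] [Finite P] {p : ℕ} [hp : Fact p.Prime] (hP : IsPGroup p P)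
  {θ : MulAut P} {q : ℕ} (hq : q.Prime) (hqp : q ≠ p) (hθq : θ ^ q = 1)
  (hU : ∀ U : Subgroup P, U ≠ ⊤ → (∀ x ∈ U, θ x ∈ U) → ∀ x ∈ U, θ x = x)

theorem eq_one_of_pow {t : P} (hP : IsPGroup p P) (hq : q.Prime) (hqp : q ≠ p) (h : t ^ q = 1) : t = 1 := by
  obtain ⟨k, hk⟩ := IsPGroup.iff_orderOf.1 hP t
  rw [← orderOf_eq_one_iff]
  refine Nat.eq_one_of_dvd_coprimes (Nat.Coprime.pow_right k ((Nat.coprime_primes hq hp.out).2 hqp))
    (orderOf_dvd_of_pow_eq_one h) ?_
  rw [hk]

theorem conj_pow_central {x y c : P} (h : x * y * x⁻¹ = c * y) (hc : Commute x c) (i : ℕ) :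
    x ^ i * y * (x ^ i)⁻¹ = c ^ i * y := by
  induction i with
  | zero => simp
  | succ i ih =>
    calc x ^ (i + 1) * y * (x ^ (i + 1))⁻¹ = x * (x ^ i * y * (x ^ i)⁻¹) * x⁻¹ := by rw [pow_succ']; group
      _ = x * c ^ i * y * x⁻¹ := by rw [ih]; group
      _ = c ^ i * (x * y * x⁻¹) := by rw [(hc.pow_right i).eq]; group
      _ = c ^ (i + 1) * y := by rw [h, ← mul_assoc, pow_succ]

include hP hq hqp hθq hU in
theorem semiExtra (hne : θ ≠ 1) (hnab : ∃ x y : P, x * y ≠ y * x) : SemiExtra p P := by
  classical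
  -- the fixed subgroup
  let F : Subgroup P := θ.toMonoidHom.eqLocus (MonoidHom.id P)
  have hF : ∀ x, x ∈ F ↔ θ x = x := fun x => Iff.rfl
  have hle : ∀ U : Subgroup P, U ≠ ⊤ → (∀ x ∈ U, θ x ∈ U) → U ≤ F := fun U h1 h2 x hx => hU U h1 h2 x hx
  have hFne : F ≠ ⊤ := fun h => hne (MulEquiv.ext fun x => (hF x).1 (h ▸ Subgroup.mem_top x))
  have hiter : ∀ (x t : P), θ t = t → θ x = x * t → ∀ k : ℕ, (θ ^ k) x = x * t ^ k := by
    intro x t ht hx k
    induction k with
    | zero => simp
    | succ k ih => rw [pow_succ', MulAut.mul_apply, ih, map_mul, map_pow, ht, hx, mul_assoc, ← pow_succ']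
  have hfree : ∀ x, x⁻¹ * θ x ∈ F → x ∈ F := by
    intro x hx
    have h1 := hiter x (x⁻¹ * θ x) ((hF _).1 hx) (by group) q
    rw [hθq, MulAut.one_apply, left_eq_mul] at h1
    have h2 := eq_one_of_pow hP hq hqp h1
    exact (hF x).2 (inv_mul_eq_one.1 h2).symm
  -- the displacements generate
  set T := Subgroup.closure (Set.range fun x : P => x⁻¹ * θ x) with hT
  have hTinv : ∀ x ∈ T, θ x ∈ T := fun x hx => by
    have h1 : T ≤ T.comap θ.toMonoidHom := by
      rw [hT, Subgroup.closure_le]
      rintro _ ⟨y, rfl⟩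
      refine Subgroup.subset_closure ⟨θ y, ?_⟩
      show (θ y)⁻¹ * θ (θ y) = θ (y⁻¹ * θ y)
      rw [map_mul, map_inv]
    exact h1 hx
  have hTtop : T = ⊤ := by
    by_contra h
    exact hFne (eq_top_iff.2 fun x _ => hfree x (hle T h hTinv (Subgroup.subset_closure ⟨x, rfl⟩)))
  -- commutators and powers are fixed
  haveI : Nontrivial P := by
    obtain ⟨x, y, h⟩ := hnab
    exact ⟨⟨_, _, h⟩⟩
  set U0 := Subgroup.closure ({z : P | ∃ x, x ^ p = z} ∪ {z : P | ∃ x y : P, ⁅x, y⁆ = z}) with hU0
  have hU0ne : U0 ≠ ⊤ := by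
    obtain ⟨M, hM, -⟩ := (eq_top_or_exists_le_coatom (⊥ : Subgroup P)).resolve_left bot_ne_top
    haveI := hP.isNilpotent
    haveI : M.Normal :=
      Subgroup.NormalizerCondition.normal_of_coatom M Group.normalizerCondition_of_isNilpotent hM
    intro htop
    refine hM.1 (top_le_iff.1 ?_)
    rw [← htop, hU0]
    refine (Subgroup.closure_le M).2 ?_
    have hcyc : ∀ z : P ⧸ M, z ≠ 1 → Subgroup.zpowers z = ⊤ := by
      intro z hz
      obtain ⟨z, rfl⟩ := QuotientGroup.mk'_surjective M z
      have h1 : M < (Subgroup.zpowers (QuotientGroup.mk' M z)).comap (QuotientGroup.mk' M) := by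
        refine lt_of_le_of_ne (fun m hm => ?_) fun e => hz ((QuotientGroup.eq_one_iff z).2 ?_)
        swap
        · rw [e]
          show QuotientGroup.mk' M z ∈ Subgroup.zpowers (QuotientGroup.mk' M z)
          exact Subgroup.mem_zpowers _
        rw [Subgroup.mem_comap]
        rw [show QuotientGroup.mk' M m = 1 from (QuotientGroup.eq_one_iff m).2 hm]
        exact one_mem _
      have h2 := hM.2 _ h1
      rw [← Subgroup.map_comap_eq_self_of_surjective (QuotientGroup.mk'_surjective M)
        (Subgroup.zpowers (QuotientGroup.mk' M z)), h2, Subgroup.map_top_of_surjective _ (QuotientGroup.mk'_surjective M)]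
    rintro _ (⟨x, rfl⟩ | ⟨x, y, rfl⟩)
    · rw [SetLike.mem_coe, ← QuotientGroup.eq_one_iff, QuotientGroup.mk_pow]
      by_contra h
      have h1 : (x : P ⧸ M) ≠ 1 := fun e => h (by rw [e, one_pow])
      obtain ⟨i, hi⟩ := Subgroup.mem_zpowers_iff.1
        ((hcyc _ h).ge (Subgroup.mem_top (x : P ⧸ M)))
      -- then `x` is a power of its `p`-th power
      have h2 : orderOf (x : P ⧸ M) ∣ orderOf ((x : P ⧸ M) ^ p) := by
        have h5 := orderOf_dvd_of_mem_zpowers (Subgroup.mem_zpowers_iff.2 ⟨i, hi⟩)
        exact h5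
      obtain ⟨k, hk⟩ := IsPGroup.iff_orderOf.1 (hP.to_quotient M) (x : P ⧸ M)
      rcases k with _ | k
      · exact h1 (orderOf_eq_one_iff.1 (by rw [hk, pow_zero]))
      · rw [orderOf_pow_of_dvd hp.out.ne_zero (hk ▸ dvd_pow_self p k.succ_ne_zero), hk] at h2
        have h6 : p ^ (k + 1) / p = p ^ k := by rw [pow_succ, Nat.mul_div_cancel _ hp.out.pos]
        rw [h6] at h2
        have := (Nat.pow_dvd_pow_iff_le_right hp.out.one_lt).1 h2
        omega
    · rw [SetLike.mem_coe, ← QuotientGroup.eq_one_iff]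
      show QuotientGroup.mk' M ⁅x, y⁆ = 1
      rw [map_commutatorElement, commutatorElement_eq_one_iff_mul_comm]
      by_cases h : QuotientGroup.mk' M x = 1
      · rw [h, one_mul, mul_one]
      · obtain ⟨i, hi⟩ := Subgroup.mem_zpowers_iff.1 ((hcyc _ h).ge (Subgroup.mem_top (QuotientGroup.mk' M y)))
        rw [← hi]
        exact ((Commute.refl _).zpow_right i).eq
  have hU0F : U0 ≤ F := hle U0 hU0ne fun x hx => by
    have h1 : U0 ≤ U0.comap θ.toMonoidHom := by
      rw [hU0, Subgroup.closure_le]
      rintro _ (⟨y, rfl⟩ | ⟨y, w, rfl⟩)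
      · exact Subgroup.subset_closure (Or.inl ⟨θ y, (map_pow θ y p).symm⟩)
      · exact Subgroup.subset_closure (Or.inr ⟨θ y, θ w, (map_commutatorElement θ.toMonoidHom y w).symm⟩)
    exact h1 hx
  have hpowF : ∀ x : P, x ^ p ∈ F := fun x => hU0F (Subgroup.subset_closure (Or.inl ⟨x, rfl⟩))
  have hcomF : ∀ x y : P, ⁅x, y⁆ ∈ F := fun x y => hU0F (Subgroup.subset_closure (Or.inr ⟨x, y, rfl⟩))
  -- fixed elements are central
  have hFc : F ≤ Subgroup.center P := by
    intro f hf
    have h1 : T ≤ Subgroup.centralizer {f} := by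
      rw [hT, Subgroup.closure_le]
      rintro _ ⟨x, rfl⟩
      rw [SetLike.mem_coe, Subgroup.mem_centralizer_singleton_iff]
      have h2 : ⁅f, θ x⁆ = ⁅f, x⁆ := by
        have h3 := (hF _).1 (hcomF f x)
        rwa [show θ ⁅f, x⁆ = ⁅θ f, θ x⁆ from map_commutatorElement θ.toMonoidHom f x, (hF f).1 hf] at h3
      rw [commutatorElement_def, commutatorElement_def] at h2
      have h4 : f * θ x * f⁻¹ = f * x * f⁻¹ * x⁻¹ * θ x := by rw [← h2]; group
      calc x⁻¹ * θ x * f = (f * x * f⁻¹)⁻¹ * (f * x * f⁻¹ * x⁻¹ * θ x) * f := by group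
        _ = (f * x * f⁻¹)⁻¹ * (f * θ x * f⁻¹) * f := by rw [h4]
        _ = f * (x⁻¹ * θ x) := by group
    refine Subgroup.mem_center_iff.2 fun g => ?_
    exact Subgroup.mem_centralizer_singleton_iff.1 (h1 (hTtop ▸ Subgroup.mem_top g))
  have hcF : Subgroup.center P ≤ F := by
    refine hle _ (fun h => ?_) fun x hx => Subgroup.mem_center_iff.2 fun g => ?_
    · obtain ⟨x, y, hxy⟩ := hnab
      exact hxy (Subgroup.mem_center_iff.1 (h ▸ Subgroup.mem_top y) x)
    · obtain ⟨g, rfl⟩ := θ.surjective g
      rw [← map_mul, ← map_mul, Subgroup.mem_center_iff.1 hx g]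
  have hC : ∀ x, x ∈ Subgroup.center P ↔ x ∈ F := fun x => ⟨fun h => hcF h, fun h => hFc h⟩
  -- the fixed elements are commutators
  have hFD : F ≤ commutator P := by
    intro f hf
    let π := QuotientGroup.mk' (commutator P)
    letI : CommGroup (P ⧸ commutator P) :=
      { (inferInstance : Group (P ⧸ commutator P)) with
        mul_comm := fun a b => by
          obtain ⟨a, rfl⟩ := QuotientGroup.mk'_surjective _ a
          obtain ⟨b, rfl⟩ := QuotientGroup.mk'_surjective _ b
          rw [← commutatorElement_eq_one_iff_mul_comm, ← map_commutatorElement]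
          exact (QuotientGroup.eq_one_iff _).2 (Subgroup.commutator_mem_commutator trivial trivial) }
    let N : P →* P ⧸ commutator P := ∏ i ∈ Finset.range q, π.comp ((θ ^ i : MulAut P).toMonoidHom)
    have hN : ∀ x, N x = ∏ i ∈ Finset.range q, π ((θ ^ i) x) := fun x => by
      simp [N]
    have hN1 : T ≤ N.ker := by
      rw [hT, Subgroup.closure_le]
      rintro _ ⟨x, rfl⟩
      rw [SetLike.mem_coe, MonoidHom.mem_ker, map_mul, map_inv, hN, hN, inv_mul_eq_one]
      have h1 := (Finset.prod_range_succ (fun i => π ((θ ^ i) x)) q).symm.trans (Finset.prod_range_succ' _ q)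
      rw [hθq, pow_zero] at h1
      rw [mul_right_cancel h1]
      exact Finset.prod_congr rfl fun i _ => by rw [pow_succ, MulAut.mul_apply]
    have h2 : π (f ^ q) = 1 := by
      have h3 : N f = 1 := hN1 (hTtop ▸ Subgroup.mem_top f)
      have h4 : ∀ i : ℕ, (θ ^ i) f = f := fun i => by
        induction i with
        | zero => simp
        | succ i ih => rw [pow_succ, MulAut.mul_apply, (hF f).1 hf, ih]
      rw [hN, Finset.prod_congr rfl fun i _ => congrArg π (h4 i), Finset.prod_const, Finset.card_range] at h3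
      rwa [map_pow]
    obtain ⟨k, hk⟩ := IsPGroup.iff_orderOf.1 hP f
    obtain ⟨i, hi⟩ := exists_pow_eq_self_of_coprime (x := f) (n := q) (by
      rw [hk]; exact ((Nat.coprime_primes hq hp.out).2 hqp).pow_right k)
    rw [← hi]
    exact pow_mem ((QuotientGroup.eq_one_iff _).1 h2) i
  have hexp : ∀ c ∈ Subgroup.center P, c ^ p = 1 := by
    let E : Subgroup P :=
      { carrier := {c | c ∈ Subgroup.center P ∧ c ^ p = 1}
        one_mem' := ⟨one_mem _, one_pow p⟩
        mul_mem' := fun {a b} ha hb => ⟨mul_mem ha.1 hb.1, by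
          rw [Commute.mul_pow (Subgroup.mem_center_iff.1 hb.1 a), ha.2, hb.2, one_mul]⟩
        inv_mem' := fun {a} ha => ⟨inv_mem ha.1, by rw [inv_pow, ha.2, inv_one]⟩ }
    have h1 : commutator P ≤ E := Subgroup.commutator_le.2 fun x _ y _ => by
      refine ⟨hFc (hcomF x y), ?_⟩
      have h2 := conj_pow_central (x := x) (y := y) (c := ⁅x, y⁆) (by rw [commutatorElement_def]; group)
        (Subgroup.mem_center_iff.1 (hFc (hcomF x y)) x) p
      rw [← Subgroup.mem_center_iff.1 (hFc (hpowF x)) y, mul_inv_cancel_right] at h2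
      exact mul_eq_right.1 h2.symm
    exact fun c hc => (h1 (hFD (hcF hc))).2
  refine ⟨fun x y => hFc (hcomF x y), fun x => hFc (hpowF x), hexp, fun x hx c hc => ?_, fun hcard => ?_⟩
  · -- the commutators with `x` fill the centre
    let d : P →* P :=
      { toFun := fun y => ⁅x, y⁆
        map_one' := commutatorElement_one_right x
        map_mul' := fun y w => by
          calc ⁅x, y * w⁆ = ⁅x, y⁆ * (y * ⁅x, w⁆ * y⁻¹) := by simp only [commutatorElement_def]; group
            _ = _ := by rw [Subgroup.mem_center_iff.1 (hFc (hcomF x w)) y, mul_inv_cancel_right] }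
    let Rad : Subgroup P :=
      { carrier := {w | ∀ y, ⁅w, y⁆ ∈ d.range}
        one_mem' := fun y => by rw [commutatorElement_one_left]; exact one_mem _
        mul_mem' := fun {a b} ha hb y => by
          rw [show ⁅a * b, y⁆ = a * ⁅b, y⁆ * a⁻¹ * ⁅a, y⁆ by simp only [commutatorElement_def]; group,
            Subgroup.mem_center_iff.1 (hFc (hcomF b y)) a, mul_inv_cancel_right]
          exact mul_mem (hb y) (ha y)
        inv_mem' := fun {a} ha y => by
          rw [show ⁅a⁻¹, y⁆ = a⁻¹ * ⁅a, y⁆⁻¹ * a by simp only [commutatorElement_def]; group,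
            Subgroup.mem_center_iff.1 (inv_mem (hFc (hcomF a y))) a⁻¹, inv_mul_cancel_right]
          exact inv_mem (ha y) }
    have hRad : Rad = ⊤ := by
      by_contra h
      refine hx (hFc (hle Rad h (fun w hw y => ?_) (fun y => ⟨y, rfl⟩)))
      obtain ⟨y, rfl⟩ := θ.surjective y
      rw [show ⁅θ w, θ y⁆ = θ ⁅w, y⁆ from (map_commutatorElement θ.toMonoidHom w y).symm, (hF _).1 (hcomF w y)]
      exact hw y
    have h1 : commutator P ≤ d.range := Subgroup.commutator_le.2 fun w _ y _ =>
      (show w ∈ Rad from hRad ▸ Subgroup.mem_top w) y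
    exact h1 (hFD (hcF hc))
  · -- order `p ^ 3`
    have hFcard : Nat.card F = p := by
      haveI := hnab
      have h1 : Nat.card F ∣ p ^ 3 := hcard ▸ Subgroup.card_subgroup_dvd_card F
      obtain ⟨k, hk3, hk⟩ := (Nat.dvd_prime_pow hp.out).1 h1
      have hk1 : k ≠ 0 := fun h => by
        rw [h, pow_zero] at hk
        obtain ⟨x, y, hxy⟩ := hnab
        have h2 := hcomF x y
        rw [Subgroup.eq_bot_of_card_eq F hk, Subgroup.mem_bot] at h2
        exact hxy (commutatorElement_eq_one_iff_mul_comm.1 h2)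
      have hk3' : k ≠ 3 := fun h => hFne (Subgroup.eq_top_of_card_eq F (by rw [hk, h, hcard]))
      have hk2 : k ≠ 2 := fun h => by
        obtain ⟨x, y, hxy⟩ := hnab
        refine hxy ?_
        have hcc : Nat.card (P ⧸ Subgroup.center P) = p := by
          have h5 := Subgroup.card_eq_card_quotient_mul_card_subgroup (Subgroup.center P)
          rw [le_antisymm hcF hFc, hk, h, hcard, pow_succ' p 2] at h5
          rw [le_antisymm hcF hFc]
          exact (Nat.eq_of_mul_eq_mul_right (pow_pos hp.out.pos 2) h5).symm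
        haveI := isCyclic_of_prime_card hcc
        haveI := MonoidHom.isMulCommutative_of_isCyclic_of_ker_le_center (QuotientGroup.mk' (Subgroup.center P))
          (by rw [QuotientGroup.ker_mk'])
        exact mul_comm' x y
      rw [hk, show k = 1 by omega, pow_one]
    have hmod : q ∣ p ^ 3 - p := by
      letI act : MulAction (Subgroup.zpowers θ) {x : P // x ∉ F} :=
        { smul := fun g x => ⟨(g : MulAut P) x.1, fun h => x.2 (by
            obtain ⟨i, hi⟩ := (isOfFinOrder_of_finite θ).mem_powers_iff_mem_zpowers.2 g.2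
            rw [← hi] at h
            have h4 : ∀ i : ℕ, ∀ z ∈ F, (θ ^ i) z = z := fun i z hz => by
              induction i with
              | zero => simp
              | succ i ih => rw [pow_succ, MulAut.mul_apply, (hF z).1 hz, ih]
            have h5 : x.1 = (θ ^ i) x.1 := by
              refine MulEquiv.injective (θ ^ i) ?_
              exact (h4 i _ h).symm
            rw [h5]
            exact h)⟩
          one_smul := fun x => Subtype.ext rfl
          mul_smul := fun g h x => Subtype.ext rfl }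
      have hz : IsPGroup q (Subgroup.zpowers θ) := by
        intro g
        refine ⟨1, Subtype.ext ?_⟩
        obtain ⟨i, hi⟩ := Subgroup.mem_zpowers_iff.1 g.2
        rw [pow_one, SubmonoidClass.coe_pow, ← hi, ← zpow_natCast, ← zpow_mul, mul_comm, zpow_mul, zpow_natCast,
          hθq, one_zpow]
        rfl
      haveI := Fact.mk hq
      have h1 := hz.card_modEq_card_fixedPoints {x : P // x ∉ F}
      have h2 : Nat.card (MulAction.fixedPoints (Subgroup.zpowers θ) {x : P // x ∉ F}) = 0 := by
        haveI : IsEmpty (MulAction.fixedPoints (Subgroup.zpowers θ) {x : P // x ∉ F}) :=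
          ⟨fun x => x.1.2 ((hF _).2 (congrArg Subtype.val (x.2 ⟨θ, Subgroup.mem_zpowers θ⟩)))⟩
        exact Nat.card_of_isEmpty
      rw [h2, Nat.modEq_zero_iff_dvd] at h1
      have h3 : Nat.card {x : P // x ∉ F} = p ^ 3 - p := by
        haveI := Fintype.ofFinite P
        rw [Nat.card_eq_fintype_card, Fintype.card_subtype_compl, ← Nat.card_eq_fintype_card,
          ← Nat.card_eq_fintype_card, hcard]
        exact congrArg _ hFcard
      rwa [h3] at h1
    refine ⟨fun hp3 => ?_, fun hp2 A hA hA2 => ?_⟩
    · -- `p = 3`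
      subst hp3
      have hq2 : q = 2 := by
        rcases (Nat.Prime.dvd_mul hq).1 (show q ∣ 2 ^ 3 * 3 by simpa using hmod) with h | h
        · exact (Nat.prime_dvd_prime_iff_eq hq Nat.prime_two).1 (hq.dvd_of_dvd_pow h)
        · exact absurd ((Nat.prime_dvd_prime_iff_eq hq Nat.prime_three).1 h) hqp
      subst hq2
      obtain ⟨x, hx⟩ : ∃ x, x ∉ F := by
        by_contra h; push Not at h; exact hFne (eq_top_iff.2 fun x _ => h x)
      have hxx : x * θ x ∈ F := hfree _ (by
        rw [map_mul, ← MulAut.mul_apply, ← pow_two, hθq, MulAut.one_apply]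
        rw [show (x * θ x)⁻¹ * (θ x * x) = ⁅(θ x)⁻¹, x⁻¹⁆ by simp only [commutatorElement_def]; group]
        exact hcomF _ _)
      -- the proper invariant subgroup generated by `x` and the centre
      set V := F ⊔ Subgroup.zpowers x with hV
      refine hx (hle V (fun h => ?_) ?_ (Subgroup.mem_sup_right (Subgroup.mem_zpowers x)))
      · obtain ⟨a, b, hab⟩ := hnab
        refine hab ?_
        have h1 : V ≤ Subgroup.centralizer (V : Set P) := by
          have h2 : ∀ u ∈ F, ∀ w : P, w * u = u * w := fun u hu w => Subgroup.mem_center_iff.1 (hFc hu) w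
          rw [Subgroup.le_centralizer_iff]
          refine sup_le (fun u hu => Subgroup.mem_centralizer_iff.2 fun w _ => h2 u hu w) ?_
          rw [Subgroup.zpowers_le, Subgroup.mem_centralizer_iff]
          have h3 : V ≤ Subgroup.centralizer {x} :=
            sup_le (fun u hu => Subgroup.mem_centralizer_singleton_iff.2 (h2 u hu x).symm)
              (Subgroup.zpowers_le.2 (Subgroup.mem_centralizer_singleton_iff.2 rfl))
          exact fun w hw => Subgroup.mem_centralizer_singleton_iff.1 (h3 hw)
        exact (Subgroup.mem_centralizer_iff.1 (h1 (h ▸ Subgroup.mem_top a)) b (h ▸ Subgroup.mem_top b)).symm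
      · intro w hw
        have h1 : V ≤ V.comap θ.toMonoidHom := sup_le (fun u hu => by
            show θ u ∈ V
            rw [(hF u).1 hu]
            exact Subgroup.mem_sup_left hu) (Subgroup.zpowers_le.2 (by
            show θ x ∈ V
            rw [show θ x = x⁻¹ * (x * θ x) by group]
            exact mul_mem (Subgroup.mem_sup_right (inv_mem (Subgroup.mem_zpowers x))) (Subgroup.mem_sup_left hxx)))
        exact h1 hw
    · -- `p = 2`
      subst hp2
      have hq3 : q = 3 := by
        rcases (Nat.Prime.dvd_mul hq).1 (show q ∣ 2 * 3 by simpa using hmod) with h | h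
        · exact absurd ((Nat.prime_dvd_prime_iff_eq hq Nat.prime_two).1 h) hqp
        · exact (Nat.prime_dvd_prime_iff_eq hq Nat.prime_three).1 h
      subst hq3
      obtain ⟨x, hxA, hxF⟩ : ∃ x ∈ A, x ∉ F := by
        by_contra h
        push Not at h
        have := Subgroup.card_le_of_le (show A ≤ F from h)
        omega
      have hsq : ∀ y : P, y ^ 2 = 1 := by
        haveI : F.Normal := ⟨fun n hn g => by rwa [Subgroup.mem_center_iff.1 (hFc hn) g, mul_inv_cancel_right]⟩
        haveI := Fintype.ofFinite (P ⧸ F)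
        have hQ : Fintype.card (P ⧸ F) = 4 := by
          have h5 := Subgroup.card_eq_card_quotient_mul_card_subgroup F
          rw [hcard, hFcard] at h5
          rw [← Nat.card_eq_fintype_card]
          omega
        have hfp : ∀ y : P, (θ y : P ⧸ F) = y → y ∈ F := fun y h => hfree y (QuotientGroup.eq.1 h.symm)
        have h13 : θ (θ (θ x)) = x := by
          rw [← MulAut.mul_apply, ← MulAut.mul_apply, show θ * θ * θ = θ ^ 3 by rw [pow_succ, pow_two], hθq, MulAut.one_apply]
        have hmk : ∀ y w : P, (y : P ⧸ F) = w → (θ y : P ⧸ F) = θ w := fun y w h => by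
          rw [QuotientGroup.eq] at h ⊢
          rw [← map_inv, ← map_mul, (hF _).1 h]
          exact h
        have hFθ : ∀ y, θ y ∈ F → y ∈ F := fun y h => by
          have h6 : θ y = y := MulEquiv.injective θ ((hF _).1 h)
          rwa [h6] at h
        have hS : ({1, (x : P ⧸ F), (θ x : P ⧸ F), (θ (θ x) : P ⧸ F)} : Finset (P ⧸ F)) = Finset.univ := by
          refine Finset.eq_univ_of_card _ ?_
          rw [hQ, Finset.card_insert_of_notMem, Finset.card_insert_of_notMem, Finset.card_insert_of_notMem,
            Finset.card_singleton]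
          · rw [Finset.mem_singleton]
            intro h
            exact hxF (hFθ _ (hfp _ h.symm))
          · simp only [Finset.mem_insert, Finset.mem_singleton, not_or]
            refine ⟨fun h => hxF (hfp x h.symm), fun h => ?_⟩
            have h7 := hmk _ _ h
            rw [h13] at h7
            exact hxF (hfp x h7)
          · simp only [Finset.mem_insert, Finset.mem_singleton, not_or]
            refine ⟨fun h => hxF ((QuotientGroup.eq_one_iff x).1 h.symm),
              fun h => hxF (hFθ x ((QuotientGroup.eq_one_iff _).1 h.symm)),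
              fun h => hxF (hFθ x (hFθ _ ((QuotientGroup.eq_one_iff _).1 h.symm)))⟩
        have hz : ∀ z ∈ F, z ^ 2 = 1 := fun z hz => hexp z (hFc hz)
        intro y
        have hyS := Finset.mem_univ (y : P ⧸ F)
        rw [← hS] at hyS
        simp only [Finset.mem_insert, Finset.mem_singleton] at hyS
        have hkey : ∀ w : P, w ^ 2 = 1 → (y : P ⧸ F) = w → y ^ 2 = 1 := fun w hw h => by
          have h8 := QuotientGroup.eq.1 h.symm
          rw [show y = w * (w⁻¹ * y) by group, Commute.mul_pow (Subgroup.mem_center_iff.1 (hFc h8) w), hw,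
            hz _ h8, one_mul]
        rcases hyS with h | h | h | h
        · exact hz y ((QuotientGroup.eq_one_iff y).1 h)
        · exact hkey x (hA2 x hxA) h
        · exact hkey _ (by rw [← map_pow, hA2 x hxA, map_one]) h
        · exact hkey _ (by rw [← map_pow, ← map_pow, hA2 x hxA, map_one, map_one]) h
      obtain ⟨a, b, hab⟩ := hnab
      refine hab ?_
      have e : ∀ y : P, y⁻¹ = y := fun y => inv_eq_of_mul_eq_one_right (by rw [← pow_two, hsq])
      calc a * b = (a * b)⁻¹ := (e _).symm
        _ = b * a := by rw [mul_inv_rev, e, e]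

end Cfsg.Agent.Solv.SpecialSylow
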