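import Cfsg.Agent.Lib.Solv.SpecialSylow.Core
import Cfsg.Agent.Lib.Solv.SpecialSylow.Special
import Cfsg.Agent.Lib.Solv.Kulakoff
import Cfsg.Agent.Lib.Char.OneBlock
import Cfsg.Agent.Lib.Solv.HallHigman
import Cfsg.Agent.Lib.Solv.PLength

/-!
A `p`-solvable group with such a Sylow `p`-subgroup has `p`-length at most one.
-/

set_option autoImplicit false
set_option linter.style.haveILetI false
set_option linter.unusedSectionVars false

open scoped commutatorElement

namespace Cfsg.Agent.Solv.SpecialSylow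

universe u

variable {G : Type u} [Group G] [Finite G] {p : ℕ} [hp : Fact p.Prime]

/-- A Sylow subgroup stabilising a short normal series of the `p`-core lies in it. -/
theorem le_pCore_of_stab (hG : Cfsg.IsPSolvable p G) (h0 : Cfsg.pPrimeCore p G = ⊥) {N Q : Subgroup G}
    (hN : N.Normal) (hNR : N ≤ Cfsg.pCore p G) (hQ : ∀ x ∈ Q, ∀ n ∈ N, x * n = n * x)
    (hQ' : ∀ x ∈ Q, ∀ r ∈ Cfsg.pCore p G, ⁅x, r⁆ ∈ N) : Q ≤ Cfsg.pCore p G := by
  set R := Cfsg.pCore p G with hR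
  have hRn : R.Normal := Cfsg.Agent.Solv.pCore_normal p
  let L : Subgroup G :=
    { carrier := {g | (∀ n ∈ N, g * n = n * g) ∧ ∀ r ∈ R, ⁅g, r⁆ ∈ N}
      one_mem' := ⟨fun n _ => by simp, fun r _ => by simp [commutatorElement_one_left, N.one_mem]⟩
      mul_mem' := fun {a b} ha hb => ⟨fun n hn => by rw [mul_assoc, hb.1 n hn, ← mul_assoc, ha.1 n hn, mul_assoc],
        fun r hr => by
          rw [show ⁅a * b, r⁆ = a * ⁅b, r⁆ * a⁻¹ * ⁅a, r⁆ by simp only [commutatorElement_def]; group,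
            ha.1 _ (hb.2 r hr), mul_inv_cancel_right]
          exact mul_mem (hb.2 r hr) (ha.2 r hr)⟩
      inv_mem' := fun {a} ha => ⟨fun n hn => by
          rw [inv_mul_eq_iff_eq_mul, ← mul_assoc, ha.1 n hn, mul_inv_cancel_right],
        fun r hr => by
          rw [show ⁅a⁻¹, r⁆ = a⁻¹ * ⁅a, r⁆⁻¹ * a by simp only [commutatorElement_def]; group, mul_assoc,
            ← ha.1 _ (inv_mem (ha.2 r hr)), inv_mul_cancel_left]
          exact inv_mem (ha.2 r hr)⟩ }
  haveI hLn : L.Normal := ⟨fun a ha g => ⟨fun n hn => by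
      have h1 := ha.1 _ (hN.conj_mem' n hn g)
      calc g * a * g⁻¹ * n = g * (a * (g⁻¹ * n * g)) * g⁻¹ := by group
        _ = g * ((g⁻¹ * n * g) * a) * g⁻¹ := by rw [h1]
        _ = n * (g * a * g⁻¹) := by group,
      fun r hr => by
      have h1 := ha.2 _ (hRn.conj_mem' r hr g)
      rw [show ⁅g * a * g⁻¹, r⁆ = g * ⁅a, g⁻¹ * r * g⁆ * g⁻¹ by simp only [commutatorElement_def]; group]
      exact hN.conj_mem _ h1 g⟩⟩
  have hLp : IsPGroup p L := by
    rintro ⟨g, hg⟩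
    obtain ⟨k, m, hm, hkm⟩ := Nat.exists_eq_pow_mul_and_not_dvd (orderOf_pos g).ne' p hp.out.ne_one
    refine ⟨k, Subtype.ext ?_⟩
    set u := g ^ p ^ k with hu
    have hum : u ^ m = 1 := by rw [hu, ← pow_mul, ← hkm, pow_orderOf_eq_one]
    have huL := pow_mem hg (p ^ k)
    have hmco : m.Coprime p := (hp.out.coprime_iff_not_dvd.2 hm).symm
    have huC : u ∈ Subgroup.centralizer (R : Set G) := by
      rw [Subgroup.mem_centralizer_iff]
      intro r hr
      have h1 : ∀ n : ℕ, u ^ n * r * (u ^ n)⁻¹ = ⁅u, r⁆ ^ n * r := fun n => by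
        induction n with
        | zero => simp
        | succ n ihn =>
          calc u ^ (n + 1) * r * (u ^ (n + 1))⁻¹ = u * (u ^ n * r * (u ^ n)⁻¹) * u⁻¹ := by rw [pow_succ']; group
            _ = u * ⁅u, r⁆ ^ n * (r * u⁻¹) := by rw [ihn]; group
            _ = ⁅u, r⁆ ^ n * u * (r * u⁻¹) := by rw [huL.1 _ (pow_mem (huL.2 r hr) n)]
            _ = ⁅u, r⁆ ^ (n + 1) * r := by rw [pow_succ]; simp only [commutatorElement_def]; group
      have h2 := h1 m
      rw [hum, one_mul, inv_one, mul_one, right_eq_mul] at h2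
      obtain ⟨j, hj⟩ := IsPGroup.iff_orderOf.1 (Cfsg.Agent.Fusion.isPGroup_pCore p G) ⟨_, hNR (huL.2 r hr)⟩
      rw [Subgroup.orderOf_mk] at hj
      have h3 : ⁅u, r⁆ = 1 := orderOf_eq_one_iff.1 (Nat.eq_one_of_dvd_coprimes (hmco.pow_right j)
        (orderOf_dvd_of_pow_eq_one h2) (hj ▸ dvd_rfl))
      exact (commutatorElement_eq_one_iff_mul_comm.1 h3).symm
    have huR := Cfsg.Agent.Char.centralizer_pCore_le_of_pSolvable hG h0 huC
    obtain ⟨j, hj⟩ := Cfsg.Agent.Fusion.isPGroup_pCore p G ⟨u, huR⟩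
    exact orderOf_eq_one_iff.1 (Nat.eq_one_of_dvd_coprimes (hmco.pow_right j) (orderOf_dvd_of_pow_eq_one hum)
      (orderOf_dvd_of_pow_eq_one (congrArg Subtype.val hj)))
  exact fun x hx => Cfsg.Agent.Fusion.le_pCore hLp ⟨hQ x hx, hQ' x hx⟩

theorem sylow_le_pCore (hG : Cfsg.IsPSolvable p G) (h0 : Cfsg.pPrimeCore p G = ⊥) (Q : Sylow p G)
    (hQ : (∀ x y : ↥(Q : Subgroup G), x * y = y * x) ∨ SemiExtra p ↥(Q : Subgroup G)) :
    (Q : Subgroup G) ≤ Cfsg.pCore p G := by
  classical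
  set R := Cfsg.pCore p G with hR
  haveI hRn : R.Normal := Cfsg.Agent.Solv.pCore_normal p
  have hCR := Cfsg.Agent.Char.centralizer_pCore_le_of_pSolvable hG h0
  have hRQ : R ≤ (Q : Subgroup G) := Cfsg.Agent.Fusion.pCore_le_sylow Q
  rcases hQ with hab | E
  · refine fun x hx => hCR (Subgroup.mem_centralizer_iff.2 fun r hr => ?_)
    exact congrArg Subtype.val (hab ⟨r, hRQ hr⟩ ⟨x, hx⟩)
  by_contra hQR
  set Z := (Subgroup.center ↥(Q : Subgroup G)).map (Q : Subgroup G).subtype with hZ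
  have hZQ : Z ≤ (Q : Subgroup G) := Subgroup.map_subtype_le _
  have hZc : ∀ z ∈ Z, ∀ y ∈ (Q : Subgroup G), y * z = z * y := by
    rintro _ ⟨c, hc, rfl⟩ y hy
    exact congrArg Subtype.val (Subgroup.mem_center_iff.1 hc ⟨y, hy⟩)
  have hcomm : ∀ x ∈ (Q : Subgroup G), ∀ y ∈ (Q : Subgroup G), ⁅x, y⁆ ∈ Z := fun x hx y hy =>
    ⟨⁅⟨x, hx⟩, ⟨y, hy⟩⁆, E.comm _ _, rfl⟩
  have hZexp : ∀ z ∈ Z, z ^ p = 1 := by
    rintro _ ⟨c, hc, rfl⟩
    exact congrArg Subtype.val (E.exp c hc)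
  have hfull : ∀ x ∈ (Q : Subgroup G), x ∉ Z → ∀ c ∈ Z, ∃ y ∈ (Q : Subgroup G), ⁅x, y⁆ = c := by
    rintro x hx hxZ _ ⟨c, hc, rfl⟩
    obtain ⟨y, hy⟩ := E.full ⟨x, hx⟩ (fun h => hxZ ⟨_, h, rfl⟩) c hc
    exact ⟨y, y.2, congrArg Subtype.val hy⟩
  have hZR : Z ≤ R := fun z hz => hCR (Subgroup.mem_centralizer_iff.2 fun r hr => hZc z hz r (hRQ hr))
  have hZn : ¬ Z.Normal := fun h => hQR (le_pCore_of_stab hG h0 h hZR (fun x hx n hn => hZc n hn x hx)
    fun x hx r hr => hcomm x hx r (hRQ hr))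
  have hZne : Z ≠ ⊥ := fun h => hZn (h ▸ inferInstance)
  have cfg : ∀ (A : Subgroup G) [A.Normal], Z ≤ A → A ≤ R → (∀ a ∈ A, ∀ b ∈ A, a * b = b * a) → ¬ A ≤ Z →
      Cfsg.pCore p (G ⧸ Subgroup.centralizer (A : Set G)) = ⊥ →
      ∃ (φ : G ⧸ Subgroup.centralizer (A : Set G) →* MulAut A),
        Config p φ (Z.subgroupOf A) ((Q : Subgroup G).map (QuotientGroup.mk' (Subgroup.centralizer (A : Set G))))
          (Cfsg.pPrimeCore p (G ⧸ Subgroup.centralizer (A : Set G))) := by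
    intro A _ hZA hAR hA hAZ hO
    set C := Subgroup.centralizer (A : Set G) with hC
    have hker : C ≤ (MulAut.conjNormal (H := A)).ker := fun g hg => MonoidHom.mem_ker.2 (MulEquiv.ext fun a => Subtype.ext (by
      rw [MulAut.conjNormal_apply, MulAut.one_apply, ← Subgroup.mem_centralizer_iff.1 hg a a.2, mul_inv_cancel_right]))
    let φ : G ⧸ C →* MulAut A := QuotientGroup.lift C MulAut.conjNormal hker
    have hφ : ∀ (g : G) (a : A), ((φ (QuotientGroup.mk' C g) a : A) : G) = g * a * g⁻¹ := fun g a =>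
      MulAut.conjNormal_apply g a
    refine ⟨φ,
      { comm := fun a b => Subtype.ext (hA a a.2 b b.2)
        inj := ?_
        exp := fun z hz => Subtype.ext (hZexp z hz)
        proper := ?_
        nt := ?_
        fixZ := ?_
        quot := ?_
        full := ?_
        pgroup := Q.2.map _
        wcomm := ?_
        wexp := ?_
        normal := Cfsg.Agent.Solv.pPrimeCore_normal p
        coprime := Cfsg.Agent.Fusion.card_pPrimeCore_coprime p _
        cent := Cfsg.Agent.Solv.centralizer_pPrimeCore_le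
          (Cfsg.Agent.Solv.isPSolvable_map hp.out hG _ (QuotientGroup.mk'_surjective C)) hO }⟩
    · rw [injective_iff_map_eq_one]
      intro q hq
      obtain ⟨g, rfl⟩ := QuotientGroup.mk'_surjective C q
      refine (QuotientGroup.eq_one_iff g).2 (Subgroup.mem_centralizer_iff.2 fun a ha => ?_)
      have h1 : g * a * g⁻¹ = a := by
        have h2 := hφ g ⟨a, ha⟩
        rw [hq] at h2
        exact h2.symm
      exact (mul_inv_eq_iff_eq_mul.1 h1).symm
    · obtain ⟨a, ha, haZ⟩ := SetLike.not_le_iff_exists.1 hAZ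
      exact ⟨⟨a, ha⟩, haZ⟩
    · intro h
      refine hZne ((Subgroup.eq_bot_iff_forall _).2 fun z hz => ?_)
      exact congrArg Subtype.val ((Subgroup.eq_bot_iff_forall _).1 h ⟨z, hZA hz⟩ hz)
    · rintro _ ⟨y, hy, rfl⟩ z hz
      refine Subtype.ext ?_
      rw [hφ, hZc z hz y hy, mul_inv_cancel_right]
    · rintro _ ⟨y, hy, rfl⟩ a
      show ((φ (QuotientGroup.mk' C y) a * a⁻¹ : A) : G) ∈ Z
      rw [Subgroup.coe_mul, hφ, Subgroup.coe_inv]
      exact hcomm y hy a (hRQ (hAR a.2))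
    · intro a haZ c hc
      obtain ⟨y, hy, hyc⟩ := hfull a (hRQ (hAR a.2)) haZ _ (inv_mem (show (c : G) ∈ Z from hc))
      refine ⟨_, ⟨y, hy, rfl⟩, Subtype.ext ?_⟩
      rw [Subgroup.coe_mul, hφ, Subgroup.coe_inv, ← inv_inv (c : G), ← hyc]
      simp only [commutatorElement_def]; group
    · rintro _ ⟨x, hx, rfl⟩ _ ⟨y, hy, rfl⟩
      refine commutatorElement_eq_one_iff_mul_comm.1 ?_
      rw [← map_commutatorElement]
      exact (QuotientGroup.eq_one_iff _).2 (Subgroup.mem_centralizer_iff.2 fun a ha =>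
        hA a ha _ (hZA (hcomm x hx y hy)))
    · rintro _ ⟨x, hx, rfl⟩
      rw [← map_pow]
      exact (QuotientGroup.eq_one_iff _).2 (Subgroup.mem_centralizer_iff.2 fun a ha =>
        hA a ha _ (hZA ⟨⟨x, hx⟩ ^ p, E.pow _, rfl⟩))
  by_cases hZp : Nat.card Z = p
  swap
  · -- a minimal normal subgroup properly over `Z`
    have hex : ∃ k : ℕ, ∃ A : Subgroup G, A.Normal ∧ Z ≤ A ∧ A ≤ R ∧ (∀ a ∈ A, ∀ b ∈ A, a * b = b * a) ∧
        Nat.card A = k := by
      refine ⟨_, R ⊓ Subgroup.centralizer (R : Set G), inferInstance,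
        le_inf hZR fun z hz => Subgroup.mem_centralizer_iff.2 fun r hr => hZc z hz r (hRQ hr), inf_le_left,
        fun a ha b hb => Subgroup.mem_centralizer_iff.1 (Subgroup.mem_inf.1 hb).2 a (Subgroup.mem_inf.1 ha).1, rfl⟩
    obtain ⟨A, hAn, hZA, hAR, hA, hcard⟩ := Nat.find_spec hex
    have hAZ : ¬ A ≤ Z := fun h => hZn (le_antisymm h hZA ▸ hAn)
    have hO : Cfsg.pCore p (G ⧸ Subgroup.centralizer (A : Set G)) = ⊥ := by
      set C := Subgroup.centralizer (A : Set G) with hC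
      set π := QuotientGroup.mk' C
      haveI : (Cfsg.pCore p (G ⧸ C)).Normal := Cfsg.Agent.Solv.pCore_normal p
      set L := (Cfsg.pCore p (G ⧸ C)).comap π
      haveI : L.Normal := Subgroup.Normal.comap inferInstance π
      set A1 := A ⊓ Subgroup.centralizer (L : Set G)
      have hZA1 : Z ≤ A1 := le_inf hZA fun z hz => Subgroup.mem_centralizer_iff.2 fun g hg => by
        have h1 : π g ∈ ((Q.mapSurjective (QuotientGroup.mk'_surjective C) : Sylow p (G ⧸ C)) : Subgroup (G ⧸ C)) :=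
          Cfsg.Agent.Fusion.pCore_le_sylow _ hg
        rw [Sylow.coe_mapSurjective] at h1
        obtain ⟨y, hy, hyg⟩ := h1
        have h2 : y⁻¹ * g ∈ C := QuotientGroup.eq.1 hyg
        have h3 := Subgroup.mem_centralizer_iff.1 h2 z (hZA hz)
        calc g * z = y * ((y⁻¹ * g) * z) := by group
          _ = y * (z * (y⁻¹ * g)) := by rw [h3]
          _ = (y * z) * (y⁻¹ * g) := by group
          _ = z * g := by rw [hZc z hz y hy]; group
      have hA1 : A1 = A := by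
        refine Subgroup.eq_of_le_of_card_ge inf_le_left ?_
        rw [hcard]
        exact Nat.find_min' hex ⟨A1, inferInstance, hZA1, inf_le_left.trans hAR,
          fun a ha b hb => hA a (Subgroup.mem_inf.1 ha).1 b (Subgroup.mem_inf.1 hb).1, rfl⟩
      refine (Subgroup.eq_bot_iff_forall _).2 fun q hq => ?_
      obtain ⟨g, rfl⟩ := QuotientGroup.mk'_surjective C q
      refine (QuotientGroup.eq_one_iff g).2 (Subgroup.mem_centralizer_iff.2 fun a ha => ?_)
      exact (Subgroup.mem_centralizer_iff.1 (Subgroup.mem_inf.1 (hA1.symm ▸ ha : a ∈ A1)).2 g hq).symm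
    haveI := hAn
    obtain ⟨φ, hc⟩ := cfg A hZA hAR hA hAZ hO
    exact hZp ((Nat.card_congr (Subgroup.subgroupOfEquivOfLe hZA).toEquiv).symm.trans hc.small.1)
  -- the centre has order `p`
  have hRab : ∀ a ∈ R, ∀ b ∈ R, a * b = b * a := by
    have h1 : ⁅R, R⁆ ≤ Z := Subgroup.commutator_le.2 fun a ha b hb => hcomm a (hRQ ha) b (hRQ hb)
    have h2 : ⁅R, R⁆ = ⊥ := by
      rcases (Nat.dvd_prime hp.out).1 (hZp ▸ Subgroup.card_dvd_of_le h1) with h | h
      · exact Subgroup.eq_bot_of_card_eq _ h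
      · exact absurd ((Subgroup.eq_of_le_of_card_ge h1 (hZp.trans h.symm).le) ▸ inferInstance) hZn
    intro a ha b hb
    exact commutatorElement_eq_one_iff_mul_comm.1 (Subgroup.mem_bot.1 (h2 ▸ Subgroup.commutator_mem_commutator ha hb))
  have hCeq : Subgroup.centralizer (R : Set G) = R := le_antisymm hCR
    fun a ha => Subgroup.mem_centralizer_iff.2 fun b hb => hRab b hb a ha
  have hO : Cfsg.pCore p (G ⧸ Subgroup.centralizer (R : Set G)) = ⊥ := by
    have key : ∀ (M : Subgroup G) [M.Normal], M = Cfsg.pCore p G → Cfsg.pCore p (G ⧸ M) = ⊥ := by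
      intro M _ hM
      subst hM
      exact Cfsg.Agent.Fusion.pCore_quotient_eq_bot
    exact key _ hCeq
  have hRZ : ¬ R ≤ Z := fun h => hZn (le_antisymm h hZR ▸ hRn)
  obtain ⟨φ, hc⟩ := cfg R hZR le_rfl hRab hRZ hO
  obtain ⟨-, hRcard, a, ha, hWa⟩ := hc.small
  -- exponent
  have hexp : ∀ x ∈ R, x ^ p = 1 := by
    let W1 : Subgroup G :=
      { carrier := {x | x ∈ R ∧ x ^ p = 1}
        one_mem' := ⟨one_mem R, one_pow p⟩
        mul_mem' := fun {x y} hx hy => ⟨mul_mem hx.1 hy.1, by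
          rw [Commute.mul_pow (hRab x hx.1 y hy.1), hx.2, hy.2, one_mul]⟩
        inv_mem' := fun {x} hx => ⟨inv_mem hx.1, by rw [inv_pow, hx.2, inv_one]⟩ }
    haveI : W1.Normal := ⟨fun x hx g => ⟨hRn.conj_mem x hx.1 g, by rw [conj_pow, hx.2, mul_one, mul_inv_cancel]⟩⟩
    have hZW : Z ≤ W1 := fun z hz => ⟨hZR hz, hZexp z hz⟩
    have h1 : Nat.card W1 ∣ p ^ 2 := by
      rw [pow_two, ← hRcard]; exact Subgroup.card_dvd_of_le (show W1 ≤ R from fun x hx => hx.1)
    obtain ⟨k, hk2, hk⟩ := (Nat.dvd_prime_pow hp.out).1 h1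
    have h3 : Nat.card Z < Nat.card W1 := by
      refine lt_of_le_of_ne (Subgroup.card_le_of_le hZW) fun h => hZn ?_
      exact (Subgroup.eq_of_le_of_card_ge hZW h.ge) ▸ inferInstance
    rw [hZp, hk] at h3
    have h4 : k = 2 := by
      rcases k with _ | _ | k
      · rw [pow_zero] at h3; have := hp.out.one_lt; omega
      · rw [pow_one] at h3; omega
      · omega
    intro x hx
    exact ((Subgroup.eq_of_le_of_card_ge (show W1 ≤ R from fun x hx => hx.1) (by rw [hRcard, hk, h4, pow_two])).ge hx : x ∈ W1).2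
  -- order `p ^ 3`
  have hQcard : Nat.card ↥(Q : Subgroup G) = p ^ 3 := by
    have h1 := Cfsg.Agent.Solv.card_map_mk'_mul_card_inf (Subgroup.centralizer (R : Set G)) (Q : Subgroup G)
    have h2 : Nat.card (Subgroup.centralizer (R : Set G) ⊓ (Q : Subgroup G) : Subgroup G) = p * p := by
      rw [hCeq, inf_eq_left.2 hRQ]; exact hRcard
    have hao : orderOf a = p := by
      refine orderOf_eq_prime (hc.wexp a ha) fun h => ?_
      obtain ⟨x, hx⟩ := hc.proper
      obtain ⟨c, hcZ, hc1⟩ : ∃ c ∈ Z.subgroupOf R, c ≠ 1 := by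
        by_contra h'
        push Not at h'
        exact hc.nt ((Subgroup.eq_bot_iff_forall _).2 h')
      obtain ⟨w, hw, hwc⟩ := hc.full x hx c hcZ
      rw [hWa, h, Subgroup.zpowers_one_eq_bot, Subgroup.mem_bot] at hw
      rw [hw, map_one, MulAut.one_apply, mul_inv_cancel] at hwc
      exact hc1 hwc.symm
    rw [hWa, Nat.card_zpowers, hao, h2] at h1
    rw [← h1]; ring
  obtain ⟨hp3, hp2⟩ := E.small hQcard
  by_cases h2 : p = 2
  · refine hp2 h2 (R.subgroupOf (Q : Subgroup G)) ?_ fun x hx => Subtype.ext ?_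
    · rw [Nat.card_congr (Subgroup.subgroupOfEquivOfLe hRQ).toEquiv, hRcard, h2]
    · have := hexp x hx
      subst h2
      exact this
  · exact hc.exponent_false h2 hp3 fun x => Subtype.ext (hexp x x.2)

/-- `p`-length one from the structure of the Sylow subgroup. -/
theorem pLengthLE_one {X : Type*} [Group X] [Finite X] (hG : Cfsg.IsPSolvable p G) (Q : Sylow p G)
    (e : ↥(Q : Subgroup G) ≃* X) (hX : (∀ x y : X, x * y = y * x) ∨ ∃ (θ : MulAut X) (q : ℕ), q.Prime ∧ q ≠ p ∧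
      θ ^ q = 1 ∧ θ ≠ 1 ∧ ∀ U : Subgroup X, U ≠ ⊤ → (∀ x ∈ U, θ x ∈ U) → ∀ x ∈ U, θ x = x) :
    Cfsg.PLengthLE p 1 G := by
  set N := Cfsg.pPrimeCore p G with hN
  haveI : N.Normal := Cfsg.Agent.Solv.pPrimeCore_normal p
  refine (Cfsg.Agent.Solv.PLen.pLengthLE_iff 1).2 (Cfsg.Agent.Solv.PLen.HasPSeries.lift_pPrime N
    (Cfsg.Agent.Fusion.card_pPrimeCore_coprime p G) ?_)
  set π := QuotientGroup.mk' N
  have hinj : Function.Injective (π.comp (Q : Subgroup G).subtype) := by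
    rw [injective_iff_map_eq_one]
    intro x hx
    have h1 : (x : G) ∈ N ⊓ (Q : Subgroup G) := Subgroup.mem_inf.2 ⟨(QuotientGroup.eq_one_iff _).1 hx, x.2⟩
    rw [Cfsg.Agent.Fusion.coprime_inf_pGroup (Cfsg.Agent.Fusion.card_pPrimeCore_coprime p G) Q.2, Subgroup.mem_bot] at h1
    exact Subtype.ext h1
  set Q' : Sylow p (G ⧸ N) := Q.mapSurjective (QuotientGroup.mk'_surjective N)
  have hQ' : (Q' : Subgroup (G ⧸ N)) = (π.comp (Q : Subgroup G).subtype).range := by
    rw [Sylow.coe_mapSurjective, MonoidHom.range_comp, Subgroup.range_subtype]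
  let e' : ↥(Q' : Subgroup (G ⧸ N)) ≃* X :=
    ((MulEquiv.subgroupCongr hQ').trans (MonoidHom.ofInjective hinj).symm).trans e
  have hcase : (∀ x y : ↥(Q' : Subgroup (G ⧸ N)), x * y = y * x) ∨ SemiExtra p ↥(Q' : Subgroup (G ⧸ N)) := by
    by_cases hab : ∀ x y : ↥(Q' : Subgroup (G ⧸ N)), x * y = y * x
    · exact Or.inl hab
    push Not at hab
    rcases hX with hX | ⟨θ, q, hq, hqp, hθq, hne, hU⟩
    · obtain ⟨x, y, hxy⟩ := hab
      exact absurd (e'.injective (by rw [map_mul, map_mul, hX])) hxy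
    · right
      set Θ : MulAut X ≃* MulAut ↥(Q' : Subgroup (G ⧸ N)) := MulAut.congr e'.symm with hΘ
      have hΘa : ∀ x, Θ θ x = e'.symm (θ (e' x)) := fun x => rfl
      refine semiExtra Q'.2 (θ := Θ θ) hq hqp (by rw [← map_pow, hθq, map_one]) (fun U hU1 hU2 x hx => ?_)
        (fun h => hne (Θ.injective (h.trans (map_one Θ).symm))) hab
      rw [hΘa]
      have h1 := hU (U.comap e'.symm.toMonoidHom) (fun h => hU1 ?_) (fun w hw => ?_) (e' x) ?_
      · rw [h1, MulEquiv.symm_apply_apply]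
      · refine eq_top_iff.2 fun u _ => ?_
        have h2 : e' u ∈ U.comap e'.symm.toMonoidHom := h ▸ Subgroup.mem_top _
        simpa using h2
      · show e'.symm (θ w) ∈ U
        have h2 := hU2 (e'.symm w) hw
        rwa [hΘa, MulEquiv.apply_symm_apply] at h2
      · show e'.symm (e' x) ∈ U
        rwa [MulEquiv.symm_apply_apply]
  have h1 := sylow_le_pCore (Cfsg.Agent.Solv.isPSolvable_map hp.out hG _ (QuotientGroup.mk'_surjective N))
    Cfsg.Agent.Fusion.pPrimeCore_quotient_eq_bot Q' hcase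
  haveI hO : (Cfsg.pCore p (G ⧸ N)).Normal := Cfsg.Agent.Solv.pCore_normal p
  refine Cfsg.Agent.Solv.PLen.HasPSeries.lift_p (k := 0) (Cfsg.pCore p (G ⧸ N))
    (Cfsg.Agent.Fusion.isPGroup_pCore p _) (Cfsg.Agent.Solv.PLen.hasPSeries_of_coprime 0 ?_)
  rw [← Subgroup.index_eq_card, Nat.coprime_comm, hp.out.coprime_iff_not_dvd]
  exact fun hd => Sylow.not_dvd_index Q' (hd.trans (Subgroup.index_dvd_of_le h1))

end Cfsg.Agent.Solv.SpecialSylow
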